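import Groth.Agent.Lib.Lichtenbaum22.Main
import Groth.Agent.Lib.DualQCoh12.Push
import Groth.Agent.Lib.K0Sub.Localization
import Groth.Agent.Lib.QDim18.Main
import Groth.Agent.Lib.GrpdQuot.InvariantOpen
import Groth.Agent.Lib.Euler.Basic
import Groth.Agent.Lib.GVanish.Main

/-! # Finiteness of the top cohomology of coherent sheaves -/

set_option autoImplicit false
set_option backward.isDefEq.respectTransparency false
set_option linter.style.haveILetI false
set_option maxHeartbeats 800000
universe u

open CategoryTheory CategoryTheory.Limits AlgebraicGeometry TopologicalSpace Opposite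

noncomputable section

namespace GrothLib.TopFin29

theorem exists_dense_affine_compactification {k : Type u} [Field k] (U : Scheme.{u}) (f : U ⟶ Spec (CommRingCat.of k))
    [IsSeparated f] [LocallyOfFiniteType f] [QuasiCompact f] :
    ∃ (X : Scheme.{u}) (p : X ⟶ Spec (CommRingCat.of k)) (v : U ⟶ X), IsProper p ∧ IsOpenImmersion v ∧
      IsAffineHom v ∧ v ≫ p = f ∧ topologicalKrullDim X = topologicalKrullDim U ∧ DenseRange v := by
  obtain ⟨Y, j, p, hj, hjq, hp, hjp⟩ := Nagata6.exists_compactification_of_noetherian f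
  haveI := hj
  haveI := hp
  haveI : IsLocallyNoetherian Y := LocallyOfFiniteType.isLocallyNoetherian p
  haveI : CompactSpace Y := QuasiCompact.compactSpace_of_compactSpace p
  haveI : IsNoetherian Y := {}
  obtain ⟨Q, hQ, hQs⟩ := FgSupport6.exists_fg_support_eq j.opensRange (NoetherianSpace.isCompact _)
  have hQs' : (Q.support : Set Y) = (Set.range j)ᶜ := hQs
  obtain ⟨X, b, hb⟩ := GrothLib.BlowUp.exists_isBlowUp Y Q
  haveI : IsProper b := Nagata6.isProper_of_isBlowUp (show BlowUp.IsFiniteTypeIdeal Q from hQ) hb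
  have hd : Disjoint (Q.support : Set Y) (Set.range j) := by
    rw [hQs']
    exact disjoint_compl_left
  obtain ⟨v, hv, hvb, hvr⟩ := Nagata6.exists_lift_off hb j hd
  haveI := hv
  have hrange : ∀ x : X, x ∈ Set.range v ↔ x ∉ (Q.comap b).support := by
    intro x
    have hc : x ∈ ((Q.comap b).support : Set X) ↔ b x ∈ (Q.support : Set Y) := by
      rw [Scheme.IdealSheafData.support_comap]
      rfl
    constructor
    · rintro ⟨z, rfl⟩ hmem
      refine Set.disjoint_left.1 hd (hc.1 hmem) ⟨z, ?_⟩
      rw [← Scheme.Hom.comp_apply, hvb]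
    · intro hx
      refine hvr x ?_
      by_contra hxj
      exact hx (hc.2 (by rw [hQs']; exact hxj))
  have hdiv : ∀ x : X, ∃ W : X.affineOpens, x ∈ W.1 ∧ ∃ g : Γ(X, W.1), (Q.comap b).ideal W = Ideal.span {g} := by
    intro x
    obtain ⟨W, hxW, g, -, hg⟩ := hb.1 x
    exact ⟨W, hxW, g, hg⟩
  have hopen : v.opensRange = (Q.comap b).support.compl := TopologicalSpace.Opens.ext (Set.ext hrange)
  haveI : IsAffineHom v.opensRange.ι := by
    rw [hopen]
    exact Groth.Agent.S8853.result (Q.comap b) fun x _ => hdiv x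
  haveI : IsAffineHom v := by
    rw [← v.isoOpensRange_hom_ι]
    infer_instance
  have hdense : DenseRange v := by
    have h := LocImm8.dense_range_lift hb j hQs' v hvb (𝟙 U) (Function.surjective_id.denseRange)
    rwa [Category.id_comp] at h
  refine ⟨X, b ≫ p, v, inferInstance, hv, inferInstance, by rw [reassoc_of% hvb, hjp], ?_, hdense⟩
  rw [← DimFin29.topologicalKrullDim_dense (b ≫ p) (U := v.opensRange) hdense]
  exact (IsHomeomorph.topologicalKrullDim_eq _ v.isOpenEmbedding.isEmbedding.toHomeomorph.isHomeomorph).symm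

/-- **Finiteness of top cohomology.** -/
theorem moduleFinite_HH_top (k : Type u) [Field k] (U : Scheme.{u}) [U.Over (Spec (CommRingCat.of k))]
    [IsSeparated (U ↘ Spec (CommRingCat.of k))] [LocallyOfFiniteType (U ↘ Spec (CommRingCat.of k))]
    [QuasiCompact (U ↘ Spec (CommRingCat.of k))]
    (F : U.Modules) (hF : Coh.IsCoh F) (d : ℕ) (hd : topologicalKrullDim U ≤ (d : WithBot ℕ∞)) :
    Module.Finite k (Coh.HH U F d) := by
  obtain ⟨X, p, v, hp, hv, hva, hvp, hdim, hdense⟩ :=
    exists_dense_affine_compactification U (U ↘ Spec (CommRingCat.of k))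
  haveI := hv
  haveI := hva
  letI : X.Over (Spec (CommRingCat.of k)) := ⟨p⟩
  haveI : IsProper (X ↘ Spec (CommRingCat.of k)) := hp
  haveI : IsNoetherian X := Euler.isNoetherian_of_proper (X := X) k
  have hX : topologicalKrullDim X ≤ (d : WithBot ℕ∞) := by rw [hdim]; exact hd
  haveI := hF.1
  obtain ⟨e, -⟩ := DualQCoh12.exists_natural_push_equiv (A := k) v hvp d
  obtain ⟨G, hG, ⟨i⟩⟩ := K0Sub.exists_extension v F hF
  let φ := K0Sub.adjunct v i.hom
  haveI : IsIso ((Scheme.Modules.restrictFunctor v).map φ) := K0Sub.isIso_map_adjunct v i.hom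
  haveI := Euler.finiteDimensional_HH k hG d
  suffices hs : Function.Surjective (Canon.HHlin k φ d) by
    haveI : Module.Finite k (Coh.HH X ((Scheme.Modules.pushforward v).obj F) d) := Module.Finite.of_surjective _ hs
    exact Module.Finite.equiv (e F hF.1).symm
  let C := cokernel φ
  have hC0 : IsZero ((Scheme.Modules.restrictFunctor v).obj C) :=
    (isZero_cokernel_of_epi ((Scheme.Modules.restrictFunctor v).map φ)).of_iso
      (PreservesCokernel.iso (Scheme.Modules.restrictFunctor v) φ)
  let Z : Set X := (Set.range v)ᶜ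
  have hZ : IsClosed Z := v.isOpenEmbedding.isOpen_range.isClosed_compl
  have hdimZ : topologicalKrullDim Z < (d : WithBot ℕ∞) := by
    refine QDim18.krullDim_lt (Subtype.val : Z → X) hZ.isClosedEmbedding_subtypeVal ?_ d
      (lt_of_le_of_lt hX (by exact_mod_cast d.lt_succ_self))
    rintro x ⟨⟨x, hx⟩, rfl⟩
    obtain ⟨z, -, hz⟩ := GrpdQuot.exists_specializes_of_mem_closure v Set.univ isClosed_univ x
      (by rw [Set.image_univ]; exact hdense x)
    exact ⟨v z, hz, fun e => hx ⟨z, e⟩⟩
  have hC : Subsingleton (Coh.HH X C d) := by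
    refine subsingleton_of_forall_eq 0 fun ξ => ?_
    have h := Lichtenbaum22.hmap_eq_zero (𝟙 C) Z hZ d hdimZ (fun x hx s => by
      obtain ⟨y, rfl⟩ : x ∈ Set.range v := not_not.1 hx
      haveI : Subsingleton (C.presheaf.stalk (v y)) := by
        have h0 : IsZero ((OX.stalk y).obj ((Scheme.Modules.restrictFunctor v).obj C)) :=
          (OX.stalk y).map_isZero hC0
        exact @Equiv.subsingleton _ _
          ((Scheme.Modules.restrictStalkNatIso v y).app C).addCommGroupIsoToAddEquiv.toEquiv.symm
          (ModuleCat.subsingleton_of_isZero h0)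
      exact Subsingleton.elim _ _) ξ
    rwa [CategoryTheory.Functor.map_id, Sheaf.H.map_id_apply] at h
  intro x
  haveI : Subsingleton (Coh.HH X (kernel φ) (d + 1)) :=
    GVanish.subsingleton_H_of_krullDim_le d hX _ (d + 1) (Nat.lt_succ_self d)
  obtain ⟨w, hS₁⟩ := QCoh.shortExact_kernel_image φ
  have hS₂ := QCoh.shortExact_image_cokernel φ
  have hT₂ := QCoh.toAbFun_map_shortExact _ hS₂
  obtain ⟨y, hy⟩ := Abelian.Ext.covariant_sequence_exact₂ _ hT₂ (show Abelian.Ext.{u} _ _ d from x)
    (Subsingleton.elim (α := Coh.HH X C d) _ _)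
  have hT₁ := QCoh.toAbFun_map_shortExact _ hS₁
  obtain ⟨z, hz⟩ := Abelian.Ext.covariant_sequence_exact₃ _ hT₁ y rfl
    (Subsingleton.elim (α := Coh.HH X (kernel φ) (d + 1)) _ _)
  refine ⟨z, ?_⟩
  rw [← hy, ← hz]
  show Sheaf.H.map ((QCoh.toAbFun X).map φ) d z = _
  have hfac : φ = Abelian.factorThruImage φ ≫ Abelian.image.ι φ := (Abelian.image.fac φ).symm
  conv_lhs => rw [hfac, Functor.map_comp, Sheaf.H.map_comp_apply]
  rfl

end GrothLib.TopFin29
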